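import Cfsg.Agent.SchurSmall.G23CoverData
import Cfsg.Agent.G2Three.Checks

set_option autoImplicit false
set_option maxRecDepth 20000

/-!
Evaluation of lifted root elements of `G₂(3)` on 1053 points.
-/

namespace Cfsg.Agent.SchurSmall.G23

open Cfsg.Agent.SchurBound Cfsg.Agent.G2Three

local notation "Z3" => ZMod 3

/-- The table of a root element. -/
def tabOf (p : ℕ × ℕ) : ℕ := (lifts.getD p.1 []).getD p.2 0

/-- The image of a point under a product of tables. -/
def evT : List ℕ → ℕ → ℕ
  | [], v => v
  | T :: L, v => getN 11 T (evT L v)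

/-- The image of a point under a word. -/
def evW (w : List (ℕ × ℕ)) (v : ℕ) : ℕ := evT (w.map tabOf) v

/-- Shift of the phase. -/
def sh (k v : ℕ) : ℕ := Nat.add (Nat.mul (Nat.div v 3) 3) (Nat.mod (Nat.add v k) 3)

/-- Two products differ by a constant phase. -/
def sameT (A B : List ℕ) (k : ℕ) : Bool :=
  allN (fun i => Nat.beq (evT A (Nat.mul 3 i)) (sh k (evT B (Nat.mul 3 i)))) 351

/-- Two words differ by a constant phase. -/
def relOK (a b : List (ℕ × ℕ)) : Bool :=
  sameT (a.map tabOf) (b.map tabOf) (Nat.mod (Nat.add (Nat.mod (evW a 0) 3)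
    (Nat.sub 3 (Nat.mod (evW b 0) 3))) 3)

/-- The checks of one root on all points. -/
def baseOK (r : ℕ) : Bool :=
  els.all fun t => allN (fun v =>
    let T := tabOf (r, t.val)
    Nat.blt (getN 11 T v) 1053 &&
      Nat.beq (getN 11 (tabOf (r, (-t).val)) (getN 11 T v)) v &&
      Nat.beq (getN 11 T (sh 1 v)) (sh 1 (getN 11 T v))) 1053

/-- The additive relations of one root. -/
def addOK (r : ℕ) : Bool :=
  els.all fun t => els.all fun u => relOK [(r, t.val), (r, u.val)] [(r, (t + u).val)]

/-- The commutator relations of one root. -/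
def commOK (r : ℕ) : Bool :=
  (List.range 12).all fun s =>
    if s = r ∨ s = Cfsg.Lie.chevG2.neg r then true else
      els.all fun t => els.all fun u =>
        relOK [(s, (-u).val), (r, (-t).val), (s, u.val), (r, t.val)]
          (toW (Cfsg.Lie.chevG2.commWord (ZMod 3) r s t u))

/-- The relations of the diagonal elements of one root. -/
def hOK (r : ℕ) : Bool :=
  els.all fun t => els.all fun u =>
    if t = 0 ∨ u = 0 then true else
      relOK (toW (Cfsg.Lie.chevG2.hWord r t ++ Cfsg.Lie.chevG2.hWord r u))
        (toW (Cfsg.Lie.chevG2.hWord r (t * u)))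

end Cfsg.Agent.SchurSmall.G23
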