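import Cfsg.Agent.SchurSmall.G23CoverBase

set_option autoImplicit false
set_option maxRecDepth 20000

/-!
Kernel checks of the lifted relations of `G₂(3)`.
-/

namespace Cfsg.Agent.SchurSmall.G23

theorem baseOK0 : baseOK 0 = true := by decide +kernel
theorem baseOK1 : baseOK 1 = true := by decide +kernel
theorem baseOK2 : baseOK 2 = true := by decide +kernel
theorem baseOK3 : baseOK 3 = true := by decide +kernel
theorem baseOK4 : baseOK 4 = true := by decide +kernel
theorem baseOK5 : baseOK 5 = true := by decide +kernel
theorem baseOK6 : baseOK 6 = true := by decide +kernel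
theorem baseOK7 : baseOK 7 = true := by decide +kernel
theorem baseOK8 : baseOK 8 = true := by decide +kernel
theorem baseOK9 : baseOK 9 = true := by decide +kernel
theorem baseOK10 : baseOK 10 = true := by decide +kernel
theorem baseOK11 : baseOK 11 = true := by decide +kernel

theorem baseOK_all : ∀ r < 12, baseOK r = true := by
  intro r hr
  interval_cases r
  exacts [baseOK0, baseOK1, baseOK2, baseOK3, baseOK4, baseOK5, baseOK6, baseOK7, baseOK8, baseOK9, baseOK10, baseOK11]

theorem addOK0 : addOK 0 = true := by decide +kernel
theorem addOK1 : addOK 1 = true := by decide +kernel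
theorem addOK2 : addOK 2 = true := by decide +kernel
theorem addOK3 : addOK 3 = true := by decide +kernel
theorem addOK4 : addOK 4 = true := by decide +kernel
theorem addOK5 : addOK 5 = true := by decide +kernel
theorem addOK6 : addOK 6 = true := by decide +kernel
theorem addOK7 : addOK 7 = true := by decide +kernel
theorem addOK8 : addOK 8 = true := by decide +kernel
theorem addOK9 : addOK 9 = true := by decide +kernel
theorem addOK10 : addOK 10 = true := by decide +kernel
theorem addOK11 : addOK 11 = true := by decide +kernel

theorem addOK_all : ∀ r < 12, addOK r = true := by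
  intro r hr
  interval_cases r
  exacts [addOK0, addOK1, addOK2, addOK3, addOK4, addOK5, addOK6, addOK7, addOK8, addOK9, addOK10, addOK11]

theorem commOK0 : commOK 0 = true := by decide +kernel
theorem commOK1 : commOK 1 = true := by decide +kernel
theorem commOK2 : commOK 2 = true := by decide +kernel
theorem commOK3 : commOK 3 = true := by decide +kernel
theorem commOK4 : commOK 4 = true := by decide +kernel
theorem commOK5 : commOK 5 = true := by decide +kernel
theorem commOK6 : commOK 6 = true := by decide +kernel
theorem commOK7 : commOK 7 = true := by decide +kernel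
theorem commOK8 : commOK 8 = true := by decide +kernel
theorem commOK9 : commOK 9 = true := by decide +kernel
theorem commOK10 : commOK 10 = true := by decide +kernel
theorem commOK11 : commOK 11 = true := by decide +kernel

theorem commOK_all : ∀ r < 12, commOK r = true := by
  intro r hr
  interval_cases r
  exacts [commOK0, commOK1, commOK2, commOK3, commOK4, commOK5, commOK6, commOK7, commOK8, commOK9, commOK10, commOK11]

theorem hOK0 : hOK 0 = true := by decide +kernel
theorem hOK1 : hOK 1 = true := by decide +kernel
theorem hOK2 : hOK 2 = true := by decide +kernel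
theorem hOK3 : hOK 3 = true := by decide +kernel
theorem hOK4 : hOK 4 = true := by decide +kernel
theorem hOK5 : hOK 5 = true := by decide +kernel
theorem hOK6 : hOK 6 = true := by decide +kernel
theorem hOK7 : hOK 7 = true := by decide +kernel
theorem hOK8 : hOK 8 = true := by decide +kernel
theorem hOK9 : hOK 9 = true := by decide +kernel
theorem hOK10 : hOK 10 = true := by decide +kernel
theorem hOK11 : hOK 11 = true := by decide +kernel

theorem hOK_all : ∀ r < 12, hOK r = true := by
  intro r hr
  interval_cases r
  exacts [hOK0, hOK1, hOK2, hOK3, hOK4, hOK5, hOK6, hOK7, hOK8, hOK9, hOK10, hOK11]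

theorem comm_nontrivial : evW [(0, 1), (4, 1), (0, 2), (4, 2)] 0 ≠ 0 := by decide +kernel

end Cfsg.Agent.SchurSmall.G23
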