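import Cfsg.Agent.SchurBound.Bound

set_option autoImplicit false
set_option maxRecDepth 40000

/-!
Certificates bounding the Schur multiplier of the Chevalley group of type `G₂` over three elements at
2 and 3.
-/

namespace Cfsg.Agent.SchurSmall.G23

open Cfsg.Agent.SchurCert Cfsg.Agent.SchurBound

/-- Root words of the generators. -/
def g23ExpGenW : List (List (ℕ × ℕ)) :=
   [[(11, 1), (0, 1), (0, 2)],
    [(10, 1)],
    [(9, 1)],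
    [(8, 1)],
    [(6, 1)],
    [(7, 1)]]

/-- Root words of the fusing elements. -/
def g23ExpGsW : List (List (ℕ × ℕ)) :=
   [[(7, 2), (4, 1), (7, 2), (7, 2), (4, 1), (7, 2)],
    [(6, 2), (5, 1), (6, 2), (6, 2), (5, 1), (6, 2)]]

/-- The certificate. -/
def g23ExpCert : BCert where
  D :=
    { P := { p := 3, n := 6, powW := [[], [], [], [], [], []], cjW := [[], [[0]], [[0], [1]], [[0], [1], [2]], [[0], [0, 1], [2], [3]], [[0], [1], [2], [2, 3], [0, 0, 1, 2, 3, 3, 4]]] }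
      gens := [0x1000000000100000000010000000001000000000100040000010004000001,
    0x1000000000100000000010000000001000020000100000000010000100001,
    0x1000000000100000000010000008001000000800100000080010040010001,
    0x1000000000100000004010000000401000000000100002004010000000801,
    0x1000000000100000000210000000001000000000100000000210000000001,
    0x1000000002100000000010000000041000000042100000000010000000021]
      gs := [0x2000000000200000000010000000001000000000100000000020000000002,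
    0x1000000000200000000020000000001000000000200000000020000000001]
      rows := [
        .assoc 5 4 3,
        .assoc 5 4 2,
        .assoc 5 4 1,
        .assoc 5 4 0,
        .assoc 5 3 1,
        .assoc 5 3 0,
        .assoc 4 3 1,
        .fus 0 [[0, 0, 1, 2, 3, 4, 5]] [[0, 0, 1, 1, 2, 2, 3, 3, 4, 4, 5]] [0, 0, 0, 0, 0, 0, 0, 0, 0] [],
        .fus 0 [[0, 0, 1, 2, 3, 4, 5], [0, 0, 1, 1, 2, 2, 3, 3, 5]] [[0, 0, 1, 1, 2, 2, 3, 3, 4, 4, 5], [0, 0, 1, 2, 3, 5]] [1, 0, 0, 0] [0, 0, 0, 1],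
        .fus 0 [[0, 0, 1, 2, 3, 4, 5], [0, 0, 1, 1, 2, 2, 3, 3, 5]] [[0, 0, 1, 1, 2, 2, 3, 3, 4, 4, 5], [0, 0, 1, 2, 3, 5]] [0, 1, 1, 1, 0] [0, 0, 1, 1, 1],
        .fus 0 [[0, 0, 1, 2, 3, 4, 5], [0, 0, 1, 1, 2, 2, 3, 3, 5]] [[0, 0, 1, 1, 2, 2, 3, 3, 4, 4, 5], [0, 0, 1, 2, 3, 5]] [1, 0, 1, 0, 1, 0] [0, 1, 0, 1, 0, 1],
        .fus 0 [[1, 3, 4]] [[1, 1, 3, 3, 4, 4]] [0, 0, 0, 0, 0, 0, 0, 0, 0] [],
        .fus 0 [[1, 3, 4], [1, 3, 3, 4, 5]] [[1, 1, 3, 3, 4, 4], [1, 1, 3, 4, 4, 5]] [1, 0, 0, 0] [0, 0, 0, 1],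
        .fus 0 [[1, 1, 2, 2, 3, 4, 4, 5, 5]] [[1, 2, 3, 3, 4, 5, 5]] [0, 0, 0, 0, 0, 0, 0, 0, 0] [],
        .fus 0 [[1, 1, 2, 2, 3, 4, 4, 5, 5], [2, 4, 4, 5]] [[1, 2, 3, 3, 4, 5, 5], [2, 2, 4, 5]] [1, 0, 1, 0, 1, 0] [0, 1, 0, 1, 0, 1],
        .fus 0 [[1, 2, 2, 3, 3, 4, 4, 5, 5]] [[1, 1, 2, 3, 4, 5, 5]] [0, 0, 0, 0, 0, 0, 0, 0, 0] [],
        .fus 0 [[0, 0, 1, 1, 2, 2, 4, 4], [0, 1, 2, 2, 3, 3]] [[0, 0, 1, 2, 4], [0, 1, 1, 2, 3]] [1, 0, 0, 1] [0, 1, 1, 0],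
        .fus 0 [[0, 0, 3], [0, 1, 3, 4, 4, 5]] [[0, 0, 3, 3], [0, 1, 1, 3, 3, 4, 5]] [1, 0, 0, 1] [0, 1, 1, 0],
        .fus 0 [[0, 1, 1, 3, 3], [0, 0, 1, 2, 2, 3, 4, 4, 5, 5]] [[0, 1, 3], [0, 0, 1, 1, 2, 3, 3, 4, 5, 5]] [1, 0, 0, 1] [0, 1, 1, 0],
        .fus 0 [[0, 0, 2, 3, 3, 5, 5], [1, 2, 2]] [[0, 0, 2, 2, 3, 5, 5], [1, 1, 2]] [1, 0] [0, 1],
        .fus 1 [[1, 1, 2, 2, 4, 5, 5]] [[1, 2, 2, 4, 5]] [0, 0, 0, 0, 0, 0, 0, 0, 0] [],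
        .fus 1 [[1, 3, 4], [0, 1, 1, 2, 4, 4]] [[1, 1, 3, 3, 4], [0, 0, 1, 2, 4, 4]] [1, 0] [0, 1]]
      beta := [[12, 12], [12, 12, 19, 20, 20], [19, 19], [], [], []]
      combo := [[3, 3, 3, 5, 5, 5, 6, 6, 6, 6, 6, 6, 8, 8, 8, 8, 8, 8, 16, 16, 16], [3, 3, 3, 7, 7, 7, 7, 7, 7, 7, 7, 8, 8, 8, 9, 9, 9, 9, 9, 9, 11, 11, 11, 11, 11, 11, 12, 12, 12, 12, 12, 12, 13, 13, 13, 13, 13, 13, 13, 13, 14, 14, 14, 14, 14, 14, 16, 16, 16, 16, 16, 16, 17, 17, 17, 17, 17, 17, 18, 18, 18], [3, 3, 3, 3, 3, 3, 5, 5, 5, 6, 6, 6, 6, 6, 6], [5, 5, 5, 7, 7, 7, 7, 7, 7, 9, 9, 9, 9, 9, 9, 11, 11, 11, 11, 11, 11], [5, 5, 5, 5, 5, 5], [4, 4, 4, 4, 4, 4], [5, 5, 5, 6, 6, 6, 6, 6, 6, 7, 7, 8, 8, 8, 8, 8, 8, 9, 9, 9, 9, 9, 9, 11, 11, 11, 11, 11, 11, 12, 12, 12, 13, 13, 13, 13, 13, 13, 13, 13, 14, 14, 14, 14, 14, 14, 16, 16, 16, 16, 16, 16, 17, 17, 17, 17, 17, 17, 18, 18,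 18], [6, 6, 6, 6, 6, 6], [0, 0, 0, 1, 1, 1, 1, 1, 1, 3, 3, 3, 3, 3, 4, 4, 4, 5, 5, 5, 6, 6, 8, 8, 8, 8, 8, 8, 8, 10, 10, 10, 10, 10, 10, 10, 10], [1, 1, 1, 4, 4, 4, 5, 5, 5, 5, 5, 5], [3, 3, 3, 4, 4, 4, 4, 4, 4, 5, 5, 5, 5, 5, 5, 5, 6, 6, 6, 6, 6, 6, 7, 7, 7, 7, 7, 9, 9, 11, 13, 13, 13, 13, 13, 13, 13, 13, 14, 14, 14, 14, 14, 14, 16, 16, 16, 16, 16, 16, 17, 17, 17, 17, 17, 17, 18, 18, 18], [3, 3, 3, 3, 3, 3, 8, 8, 8], [], [1, 1, 1, 3, 3, 3, 3, 3, 4, 4, 4, 4, 4, 4, 6, 6, 6, 6, 6, 8, 8, 8, 8, 8, 8, 8, 10, 10, 10, 10, 10, 10, 10, 10], [1, 1, 1, 1, 1, 1, 3, 3, 3, 4, 4, 4, 6, 6, 6, 6, 6, 6, 8, 8, 8, 8, 8, 8, 16, 16, 16, 21, 21, 21, 21, 21, 21], [0, 0, 0, 0, 0, 0, 1, 1, 1, 1, 1, 1, 4, 4, 4, 5, 5, 5, 5, 6, 6, 6, 6, 6, 6, 6, 7, 8, 8, 8, 8, 8, 8, 9, 9, 9, 10, 10, 10, 10, 10, 10, 10, 10, 11, 11, 11, 12, 12, 12, 13, 14, 14, 14, 16, 17, 17, 17, 18, 18, 18,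 18, 18, 18, 20, 20, 20, 20, 20, 20, 20, 20], [0, 0, 0, 0, 0, 0, 1, 1, 1, 2, 2, 2, 3, 4, 4, 4, 6, 6, 6, 6, 6, 6, 6, 8, 8, 8, 8, 8, 8, 8, 8, 10, 10, 10, 10], [5, 5, 5, 5, 5, 5, 6, 6, 6, 6, 6, 6, 12, 12, 12, 12, 12, 12, 14, 14, 14, 16, 16, 16, 17, 17, 17, 18, 18, 18, 18, 18, 18, 19, 19, 19], [3, 3, 3, 12, 12, 12, 12, 12, 12, 14, 14, 14, 16, 16, 16, 17, 17, 17, 18, 18, 18, 18, 18, 18], [], []] }
  q := 9
  scale := 3
  kills := []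


/-- Root words of the generators. -/
def g23RankGenW : List (List (ℕ × ℕ)) :=
   [[(11, 1), (0, 1), (0, 2)],
    [(10, 1)],
    [(9, 1)],
    [(8, 1)],
    [(6, 1)],
    [(7, 1)]]

/-- Root words of the fusing elements. -/
def g23RankGsW : List (List (ℕ × ℕ)) :=
   [[(7, 2), (4, 1), (7, 2), (7, 2), (4, 1), (7, 2)],
    [(6, 2), (5, 1), (6, 2), (6, 2), (5, 1), (6, 2)]]

/-- The certificate. -/
def g23RankCert : BCert where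
  D :=
    { P := { p := 3, n := 6, powW := [[], [], [], [], [], []], cjW := [[], [[0]], [[0], [1]], [[0], [1], [2]], [[0], [0, 1], [2], [3]], [[0], [1], [2], [2, 3], [0, 0, 1, 2, 3, 3, 4]]] }
      gens := [0x1000000000100000000010000000001000000000100040000010004000001,
    0x1000000000100000000010000000001000020000100000000010000100001,
    0x1000000000100000000010000008001000000800100000080010040010001,
    0x1000000000100000004010000000401000000000100002004010000000801,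
    0x1000000000100000000210000000001000000000100000000210000000001,
    0x1000000002100000000010000000041000000042100000000010000000021]
      gs := [0x2000000000200000000010000000001000000000100000000020000000002,
    0x1000000000200000000020000000001000000000200000000020000000001]
      rows := [
        .assoc 5 4 3,
        .assoc 5 4 2,
        .assoc 5 4 1,
        .assoc 5 4 0,
        .assoc 5 3 1,
        .assoc 5 3 0,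
        .assoc 4 3 1,
        .fus 0 [[0, 2, 3, 4, 4]] [[0, 2, 2, 3, 3, 4]] [0, 0, 0] [],
        .fus 0 [[0, 2, 3, 4, 4], [1, 2, 3, 5, 5]] [[0, 2, 2, 3, 3, 4], [1, 1, 2, 2, 3, 3, 5, 5]] [1, 1, 1] [],
        .fus 0 [[0, 2, 3, 4, 4], [1, 2, 3, 5, 5]] [[0, 2, 2, 3, 3, 4], [1, 1, 2, 2, 3, 3, 5, 5]] [1, 0, 0, 0] [1],
        .fus 0 [[0, 2, 3, 4, 4], [1, 2, 3, 5, 5]] [[0, 2, 2, 3, 3, 4], [1, 1, 2, 2, 3, 3, 5, 5]] [1, 1, 0, 0, 0] [1, 1],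
        .fus 0 [[0, 2, 3, 4, 4], [1, 2, 3, 5, 5]] [[0, 2, 2, 3, 3, 4], [1, 1, 2, 2, 3, 3, 5, 5]] [1, 0, 1, 0, 1, 0] [0, 1, 0, 1, 0, 1],
        .fus 0 [[0, 3, 3, 4, 5], [0, 1, 2, 5, 5]] [[0, 3, 4, 4, 5], [0, 1, 1, 2, 2, 5, 5]] [1, 1, 1] [],
        .fus 0 [[0, 3, 3, 4, 5], [0, 1, 2, 5, 5]] [[0, 3, 4, 4, 5], [0, 1, 1, 2, 2, 5, 5]] [0, 1, 0, 1, 0] [1, 1],
        .fus 0 [[0, 0, 3, 3, 5], [0, 0, 1, 2]] [[0, 0, 3, 5], [0, 0, 1, 1, 2, 2]] [1, 0] [0, 1],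
        .fus 1 [[1, 2, 2, 4, 4, 5, 5], [0, 0, 3, 4]] [[1, 1, 2, 2, 4, 4, 5], [0, 3, 3, 4]] [0, 1, 0, 1, 0] [1, 1],
        .fus 1 [[0, 1, 1, 3, 4, 5], [0, 1, 2, 4, 4, 5, 5]] [[0, 0, 1, 3, 3, 4, 5, 5], [0, 0, 1, 1, 2, 4, 4, 5]] [0, 0, 1, 0] [1]]
      beta := [[12, 12], [12, 12, 19, 20, 20], [19, 19], [], [], []]
      combo := [[5, 6, 9, 9, 10, 10, 11, 11, 13], [3, 5, 7, 7, 9, 9, 10, 10, 12], [3, 3, 5, 6, 6], [3, 3, 5, 5, 7, 9, 10], [5, 5], [4, 4], [3, 3, 5, 5, 6, 7, 9, 9, 11, 12], [6, 6], [17, 17], [1, 4, 5, 5], [3, 5, 6, 7, 10, 11, 12], [6, 6, 11], [], [0, 0, 1, 1, 4, 5, 5, 6, 17, 17], [1, 3, 5, 5, 7, 7, 8, 9, 10, 12, 12, 13, 15, 15, 16, 16], [1, 3, 3, 6, 6, 7, 8, 10, 10, 11, 11, 12, 12, 15, 15], [2, 3, 4, 4, 5, 6, 6, 17], [3, 3, 5, 7, 7, 8, 8, 10, 11, 12, 12, 14, 14], [3, 3, 5, 5, 6, 6, 7, 8, 10, 10, 11, 11, 12], [], []] }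
  q := 3
  scale := 1
  kills := [[8]]


/-- Root words of the generators. -/
def g23TwoGenW : List (List (ℕ × ℕ)) :=
   [[(7, 1), (0, 1), (6, 2), (5, 1), (6, 2), (6, 2), (5, 1), (6, 2), (4, 1), (7, 1), (7, 1)],
    [(7, 2), (4, 1), (7, 2), (7, 2), (4, 1), (7, 2)],
    [(4, 1), (7, 1), (7, 1), (4, 1)],
    [(0, 1), (6, 2), (5, 1), (6, 2), (6, 2), (5, 1), (6, 2), (4, 1), (7, 1)],
    [(4, 1), (7, 1), (7, 1), (4, 1), (0, 1), (11, 1)],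
    [(7, 1), (4, 1), (11, 1), (0, 1), (0, 1), (11, 1)]]

/-- Root words of the fusing elements. -/
def g23TwoGsW : List (List (ℕ × ℕ)) :=
   [[(11, 1), (0, 1), (0, 2)],
    [(7, 1)],
    [(11, 2), (2, 2), (6, 2), (10, 1), (5, 2), (9, 1), (1, 2), (7, 1), (5, 1)]]

/-- The certificate. -/
def g23TwoCert : BCert where
  D :=
    { P := { p := 2, n := 6, powW := [[], [], [1], [2], [], []], cjW := [[], [[0]], [[0, 1], [1]], [[0, 2], [1], [2]], [[0], [1], [2], [1, 3]], [[0, 4], [1], [1, 2], [1, 3, 4], [4]]] }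
      gens := [0x80000042000001000000080000002000000080000000000001000000040,
    0x2000000000200000000010000000001000000000100000000020000000002,
    0x80000004000000000000040000002000000040000000000000800000040,
    0x2080001044200002100020880000020100000084200000000011000000021,
    0x100000082000001000000040000002000000040000002000000840000040,
    0x840000001100010840000040080000044100042000000082000000]
      gs := [0x1000000000100000000010000000001000000000100040000010004000001,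
    0x1000000002100000000010000000041000000042100000000010000000021,
    0x4000002000001008000002000002000000800000402100000880000440]
      rows := [
        .assoc 5 5 3,
        .assoc 5 5 2,
        .assoc 5 4 3,
        .assoc 5 4 2,
        .assoc 5 3 3,
        .assoc 5 3 2,
        .assoc 5 3 0,
        .assoc 5 2 2,
        .assoc 5 2 0,
        .assoc 3 3 3,
        .assoc 3 3 0,
        .assoc 3 2 2,
        .fus 0 [[2, 4], [0, 3, 4]] [[0, 2, 3, 4, 5], [4, 5]] [1, 0] [0, 1],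
        .fus 0 [[2, 4], [0, 3, 4]] [[0, 2, 3, 4, 5], [4, 5]] [1, 1] [],
        .fus 0 [[1, 2, 5]] [[0, 3, 4]] [0, 0] [],
        .fus 1 [[0, 2, 3, 4]] [[4]] [0, 0] [],
        .fus 2 [[0, 1, 2, 3, 5]] [[0]] [0, 0] [],
        .fus 2 [[0, 1, 2, 3, 5], [0, 2, 3, 5]] [[0], [1, 4]] [1, 0] [0, 1]]
      beta := [[], [3], [6], [], [16], []]
      combo := [[4, 5, 8, 11, 12, 14, 16, 17], [1, 2, 3], [1, 2, 5, 7, 8, 11], [], [9, 10], [1, 7], [], [0, 2, 4, 6, 10, 11, 12, 13, 15, 16, 17], [11], [9], [4, 6, 8, 11, 17], [2, 11, 17], [3], [1, 3, 5, 7, 11], [0, 3, 6, 8, 11, 13, 14, 17], [0, 1, 2, 4, 5, 6, 7, 8, 10, 13, 15, 17], [], [2, 3], [0, 1, 2, 3, 13, 14], [2, 3, 4, 5, 7, 10, 11, 12], [0, 1, 4, 6, 8, 11, 17]] }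
  q := 2
  scale := 1
  kills := []

end Cfsg.Agent.SchurSmall.G23
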