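import Cfsg.Agent.SchurBound.Bound
import Cfsg.Agent.SchurCert.GolayPerm

set_option autoImplicit false
set_option maxRecDepth 40000

/-!
Certificates bounding the Schur multiplier of PSL(3, 4) at 2 and 3.
-/

namespace Cfsg.Agent.SchurSmall

open Cfsg.Agent.SchurCert Cfsg.Agent.SchurBound

/-- Generators with their inverses. -/
def l34TwoExpGens : List (ℕ × ℕ) :=
  [(0xba8ce149704518d8d92f3d4851cc20, 0xba8ce149704518d8d92f3d4851cc20),
    (0xbc44d34ad02b28e52d243cde81d420, 0xbc44d34ad02b28e52d243cde81d420),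
    (0xba1a27489054ea62bd363b1711d020, 0xba1a27489054ea62bd363b1711d020),
    (0xbaa74aa5632b9ac8da44389e881820, 0xbaa74aa5632b9ac8da44389e881820),
    (0xbd8cc10e292b5d45aa043d5e894c20, 0xbd8cc10e292b5d45aa043d5e894c20),
    (0xbb8aa44990159716d133392a61bc20, 0xbb8aa44990159716d133392a61bc20)]

/-- Fusing elements with their inverses. -/
def l34TwoExpFus : List (ℕ × ℕ) :=
  [(0xba8851b1e7a9ad2125a8a4e1172c20, 0xbb5e73308588d321594883a959ac20),
    (0xbd98d889d41acb59a1474921279820, 0xbd990592651c695724ea409a67c820)]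

/-- The certificate. -/
def l34TwoExpCert : BCert where
  D :=
    { P := { p := 2, n := 6, powW := [[], [], [], [], [], []], cjW := [[], [[0]], [[0], [1]], [[0], [1], [0, 1, 2]], [[0], [1], [1, 2], [3]], [[0], [1], [2], [0, 3], [0, 1, 4]]] }
      gens := l34TwoExpGens.map Prod.fst
      gs := l34TwoExpFus.map Prod.fst
      rows := [
        .assoc 5 5 4,
        .assoc 5 5 3,
        .assoc 5 5 2,
        .assoc 5 5 1,
        .assoc 5 5 0,
        .assoc 5 4 4,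
        .assoc 5 4 3,
        .assoc 5 4 2,
        .assoc 5 4 1,
        .assoc 5 3 3,
        .assoc 5 3 2,
        .assoc 4 4 3,
        .assoc 4 4 2,
        .assoc 4 4 1,
        .assoc 4 3 2,
        .assoc 3 3 2,
        .fus 0 [[0, 1, 5]] [[3]] [0, 0, 0, 0, 0, 0, 0, 0] [],
        .fus 0 [[1, 2]] [[0, 1, 4]] [0, 0, 0, 0, 0, 0, 0, 0] [],
        .fus 0 [[0, 1, 5], [1, 2]] [[3], [0, 1, 4]] [0, 1] [1, 0],
        .fus 1 [[1, 4]] [[5]] [0, 0, 0, 0, 0, 0, 0, 0] [],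
        .fus 1 [[1, 3]] [[2, 5]] [0, 0, 0, 0, 0, 0, 0, 0] []]
      beta := [[19], [19, 20], [], [], [], []]
      combo := [[1, 1, 1, 1, 4, 4], [0, 0, 0, 0, 1, 1, 1, 1, 3, 3, 8, 8, 8, 8], [8, 8, 8, 8], [1, 1, 1, 1, 2, 2, 3, 3, 5, 5, 5, 5, 6, 6, 6, 6, 8, 8, 8, 8, 9, 9, 9, 9, 12, 12, 12, 12, 16, 20, 20, 20, 20, 20, 20, 20], [3, 3, 4, 4, 8, 8, 8, 8, 10, 10, 10, 10], [4, 4, 7, 7, 7, 7, 10, 10, 10, 10], [2, 2, 4, 4, 6, 6, 6, 6, 7, 7, 7, 7, 9, 9, 9, 9, 10, 10, 10, 10, 17, 19, 20, 20, 20, 20, 20, 20, 20], [1, 1, 1, 1, 4, 4, 9, 9, 9, 9], [5, 5, 5, 5, 6, 6, 6, 6, 9, 9, 9, 9, 12, 12, 12, 12], [0, 0, 0, 0, 1, 1, 3, 3, 4, 4, 4, 4, 4, 5, 5, 6, 6, 6, 6, 8, 8, 8, 8, 8, 8, 9, 9, 9, 9, 9, 9, 12, 12, 12, 12, 14, 14, 14, 14, 14, 14, 15, 15], [0, 0, 0, 0, 2, 2, 4, 4, 6, 6, 6, 6, 7, 7, 7, 7, 9, 9, 9, 9, 10, 10, 10, 10, 12, 12, 12, 12, 16, 17, 20, 20, 20, 20, 20, 20, 20], [1, 1, 1, 1, 4, 4, 5, 5, 5, 5, 8, 8, 8,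 8, 12, 12, 12, 12], [0, 0, 0, 0, 1, 1, 1, 1, 3, 3, 8, 8, 8, 8, 12, 12, 12, 12], [0, 0, 0, 0, 0, 0, 3, 3, 3, 3, 3, 4, 4, 4, 4, 4, 6, 6, 6, 6, 6, 6, 8, 8, 8, 8, 8, 8, 9, 9, 9, 9, 9, 9, 12, 12, 14, 14, 14, 14, 14, 14], [0, 0, 0, 0, 1, 1, 1, 1, 2, 2, 3, 3, 5, 5, 5, 5, 7, 7, 7, 7, 8, 8, 8, 8, 9, 9, 9, 9, 14, 14, 14, 14, 18, 18, 18, 18], [0, 0, 0, 0, 2, 2, 4, 4, 6, 6, 6, 6, 7, 7, 7, 7, 9, 9, 9, 9, 10, 10, 10, 10, 16, 17, 19, 20, 20, 20, 20, 20, 20, 20], [4, 4], [3, 3], [2, 2], [], []] }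
  q := 8
  scale := 4
  kills := []

/-- Generators with their inverses. -/
def l34TwoRankGens : List (ℕ × ℕ) :=
  [(0xba8ce149704518d8d92f3d4851cc20, 0xba8ce149704518d8d92f3d4851cc20),
    (0xbc44d34ad02b28e52d243cde81d420, 0xbc44d34ad02b28e52d243cde81d420),
    (0xba1a27489054ea62bd363b1711d020, 0xba1a27489054ea62bd363b1711d020),
    (0xbaa74aa5632b9ac8da44389e881820, 0xbaa74aa5632b9ac8da44389e881820),
    (0xbd8cc10e292b5d45aa043d5e894c20, 0xbd8cc10e292b5d45aa043d5e894c20),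
    (0xbb8aa44990159716d133392a61bc20, 0xbb8aa44990159716d133392a61bc20)]

/-- Fusing elements with their inverses. -/
def l34TwoRankFus : List (ℕ × ℕ) :=
  [(0xbd4ef93105139668d14480ecd9a420, 0xb96ca1cd67a38926a451ab20833c20),
    (0xbd5566be279266e850ab40d8221820, 0xbd2ca6be2b93265455c78092331020),
    (0xbb16f555c691488a36703d86914420, 0xb9a4b4bc48a4556acc8c3c1cd28c20)]

/-- The certificate. -/
def l34TwoRankCert : BCert where
  D :=
    { P := { p := 2, n := 6, powW := [[], [], [], [], [], []], cjW := [[], [[0]], [[0], [1]], [[0], [1], [0, 1, 2]], [[0], [1], [1, 2], [3]], [[0], [1], [2], [0, 3], [0, 1, 4]]] }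
      gens := l34TwoRankGens.map Prod.fst
      gs := l34TwoRankFus.map Prod.fst
      rows := [
        .assoc 5 5 4,
        .assoc 5 5 3,
        .assoc 5 4 4,
        .assoc 5 4 3,
        .assoc 5 4 2,
        .assoc 5 4 1,
        .assoc 5 3 3,
        .assoc 5 3 2,
        .assoc 4 4 2,
        .assoc 4 3 2,
        .assoc 3 3 2,
        .fus 0 [[1, 3, 4]] [[0, 2, 5]] [0, 0] [],
        .fus 0 [[0, 1, 3]] [[0, 1, 5]] [0, 0] [],
        .fus 0 [[0, 4]] [[1, 2]] [0, 0] [],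
        .fus 1 [[0, 1, 5]] [[1, 4]] [0, 0] [],
        .fus 1 [[1, 2]] [[3, 4]] [0, 0] [],
        .fus 2 [[1, 3]] [[0, 1]] [0, 0] []]
      beta := [[19], [19, 20], [], [], [], []]
      combo := [[2, 5, 6, 9, 10], [2, 3, 5, 8, 10], [5], [1, 2, 4, 5, 6, 7, 12, 13, 14, 16], [0, 3, 6, 7, 8, 9], [1, 2, 4, 5, 6, 7, 9, 10], [3, 8, 9, 10, 16], [2, 5, 9, 10], [2, 3, 6, 8], [2, 3, 9, 10, 17, 18], [3, 9, 12, 14, 16], [6, 8, 9, 10], [2, 3, 5, 10], [1, 3, 4, 5, 7, 8, 12, 13, 14, 16, 17], [2, 3, 5, 9, 10, 13, 15, 16], [0, 3, 8, 9, 12, 16], [1, 2, 5, 6, 9, 10], [0, 1, 2, 3, 8, 10], [2, 4, 6, 8, 9, 11, 12, 15, 16], [], []] }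
  q := 2
  scale := 1
  kills := [[3, 8, 13, 19, 20], [3, 9, 11, 13, 19]]

/-- Generators with their inverses. -/
def l34ThreeExpGens : List (ℕ × ℕ) :=
  [(0xbaeaf3b9836aa8944a3611a042cc20, 0xba2ad12925a49f1b398b9986481c20),
    (0xbacd48ce4579dae409566107582420, 0xba094946637b1a7b244b756062a820)]

/-- Fusing elements with their inverses. -/
def l34ThreeExpFus : List (ℕ × ℕ) :=
  [(0xbd20b4cdc642ad16b04f38c85ac820, 0xbb476909954456aa3a6f3c08532420)]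

/-- The certificate. -/
def l34ThreeExpCert : BCert where
  D :=
    { P := { p := 3, n := 2, powW := [[], []], cjW := [[], [[0]]] }
      gens := l34ThreeExpGens.map Prod.fst
      gs := l34ThreeExpFus.map Prod.fst
      rows := [
        .fus 0 [[0, 0]] [[0, 1]] [0, 0, 0, 0, 0, 0, 0, 0, 0] [],
        .fus 0 [[1]] [[0, 0, 1]] [0, 0, 0, 0, 0, 0, 0, 0, 0] [],
        .fus 0 [[0, 0], [1]] [[0, 1], [0, 0, 1]] [0, 1] [1, 0]]
      beta := [[], []]
      combo := [[1, 1, 1, 1, 1, 1, 1, 1], [0, 1, 1, 1, 1, 1, 1, 1, 1], [2, 2, 2, 2]] }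
  q := 9
  scale := 3
  kills := []

/-- Generators with their inverses. -/
def l34ThreeRankGens : List (ℕ × ℕ) :=
  [(0xbaeaf3b9836aa8944a3611a042cc20, 0xba2ad12925a49f1b398b9986481c20),
    (0xbacd48ce4579dae409566107582420, 0xba094946637b1a7b244b756062a820)]

/-- Fusing elements with their inverses. -/
def l34ThreeRankFus : List (ℕ × ℕ) :=
  [(0xb95a674948ac48984c43652cf59c20, 0xb95e6549cb24ea71c590152cd42420)]

/-- The certificate. -/
def l34ThreeRankCert : BCert where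
  D :=
    { P := { p := 3, n := 2, powW := [[], []], cjW := [[], [[0]]] }
      gens := l34ThreeRankGens.map Prod.fst
      gs := l34ThreeRankFus.map Prod.fst
      rows := [
        .fus 0 [[0, 0]] [[1]] [0, 0, 0] [],
        .fus 0 [[1]] [[0]] [0, 0, 0] []]
      beta := [[], []]
      combo := [[0, 0, 1, 1], [0, 0, 1], [2, 2]] }
  q := 3
  scale := 1
  kills := [[2]]

theorem l34TwoRank_check : l34TwoRankCert.check permMul permOne = true := by decide +kernel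

theorem l34TwoExp_check : l34TwoExpCert.check permMul permOne = true := by decide +kernel

theorem l34ThreeRank_check : l34ThreeRankCert.check permMul permOne = true := by decide +kernel

theorem l34ThreeExp_check : l34ThreeExpCert.check permMul permOne = true := by decide +kernel


end Cfsg.Agent.SchurSmall
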