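import Cfsg.Agent.SchurSmall.TitsData
import Cfsg.Agent.ChevSmall.TitsTab

set_option autoImplicit false
set_option maxRecDepth 20000

/-!
Codes of the matrices of dimension 52 over two elements generated by the root elements of the
twisted group of type `F₄`, and the checks of the certificates.
-/

namespace Cfsg.Agent.SchurSmall.Tits

open Cfsg.Agent.SchurCert Cfsg.Agent.SchurBound Cfsg.Agent.ChevSmall.Tits

/-- Pack columns of 52 bits. -/
def packL : List ℕ → ℕ
  | [] => 0
  | m :: M => Nat.add m (Nat.mul 4503599627370496 (packL M))

/-- Unpack columns of 52 bits. -/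
def unpackL : ℕ → ℕ → List ℕ
  | 0, _ => []
  | k + 1, q => Nat.mod q 4503599627370496 :: unpackL k (Nat.div q 4503599627370496)

/-- The lowest bit of each column. -/
def onesL (n : ℕ) : ℕ := packL (List.replicate n 1)

/-- Add the columns of the left factor picked by the bits of all columns of the right one. -/
def mulGo (ones r : ℕ) : List ℕ → ℕ → ℕ → ℕ
  | [], _, acc => acc
  | m :: M, k, acc =>
    mulGo ones r M (k + 1) (Nat.xor acc (Nat.mul (Nat.land (Nat.shiftRight r k) ones) m))

/-- The lowest bits of 52 columns. -/
def ones52 : ℕ := onesL 52

/-- The product of codes. -/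
def mulCode (q r : ℕ) : ℕ := mulGo ones52 r (unpackL 52 q) 0 0

/-- The code of a word. -/
def wordCode (w : List ℕ) : ℕ := packL (unitMasks.map (aw w))

/-- The code of the identity. -/
def oneCode : ℕ := wordCode []

/-- The parity of the letters of order four. -/
def oddW : List ℕ → Bool
  | [] => false
  | k :: w => (Nat.ble 2 k) != oddW w

/-- The words of a certificate give its codes and lie in the derived subgroup. -/
def wordsOK (W : List (List ℕ)) (cs : List ℕ) : Bool :=
  decide (W.map wordCode = cs) && W.all fun w => (w.all fun k => Nat.blt k 4) && !(oddW w)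

theorem mask_lt : ∀ k < 4, ∀ m ∈ mask k, m < 4503599627370496 := by decide +kernel

theorem titsTwo_gens : wordsOK titsTwoGenW titsTwoCert.D.gens = true := by decide +kernel
theorem titsTwo_gs : wordsOK titsTwoGsW titsTwoCert.D.gs = true := by decide +kernel
theorem titsThree_gens : wordsOK titsThreeGenW titsThreeCert.D.gens = true := by decide +kernel
theorem titsThree_gs : wordsOK titsThreeGsW titsThreeCert.D.gs = true := by decide +kernel
theorem titsFive_gens : wordsOK titsFiveGenW titsFiveCert.D.gens = true := by decide +kernel
theorem titsFive_gs : wordsOK titsFiveGsW titsFiveCert.D.gs = true := by decide +kernel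
theorem titsThree_check : titsThreeCert.check mulCode oneCode = true := by decide +kernel
theorem titsFive_check : titsFiveCert.check mulCode oneCode = true := by decide +kernel
theorem titsTwo_check : titsTwoCert.check mulCode oneCode = true := by decide +kernel

end Cfsg.Agent.SchurSmall.Tits
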