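import Cfsg.Agent.SchurSmall.Rank
import Cfsg.Agent.SchurSmall.TitsCode
import Cfsg.Agent.SchurCert.Trivial
import Cfsg.Agent.ChevSmall.Tits

set_option autoImplicit false
set_option maxRecDepth 20000
set_option linter.style.haveILetI false

/-!
The Schur multiplier of the Tits group is trivial.
-/

namespace Cfsg.Agent.SchurSmall.Tits

open Cfsg.Lie Cfsg.Agent.SchurCert Cfsg.Agent.SchurBound Cfsg.Agent.ChevSmall.Tits
open scoped Matrix commutatorElement

local notation "B52" => 4503599627370496

theorem packL_cons (m : ℕ) (M : List ℕ) : packL (m :: M) = m + B52 * packL M := rfl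

theorem unpackL_packL : ∀ L : List ℕ, (∀ m ∈ L, m < B52) → unpackL L.length (packL L) = L
  | [], _ => rfl
  | m :: L, h => by
    have hm : m < B52 := h m List.mem_cons_self
    show Nat.mod (packL (m :: L)) B52 :: unpackL L.length (Nat.div (packL (m :: L)) B52) = _
    rw [packL_cons]
    have e1 : (m + B52 * packL L) % B52 = m := by
      rw [Nat.add_mul_mod_self_left, Nat.mod_eq_of_lt hm]
    have e2 : (m + B52 * packL L) / B52 = packL L := by
      rw [Nat.add_mul_div_left _ _ (by norm_num), Nat.div_eq_of_lt hm, Nat.zero_add]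
    show (m + B52 * packL L) % B52 :: unpackL L.length ((m + B52 * packL L) / B52) = _
    rw [e1, e2, unpackL_packL L fun x hx => h x (List.mem_cons_of_mem _ hx)]

theorem testBit_pack (m P i : ℕ) (hm : m < B52) :
    (m + B52 * P).testBit i = if i < 52 then m.testBit i else P.testBit (i - 52) := by
  have h : m + B52 * P = 2 ^ 52 * P + m := by norm_num; ring
  rw [h, Nat.testBit_two_pow_mul_add _ (by norm_num; exact hm)]

/-- The lowest bits of the shifted columns. -/
theorem shift_land (k : ℕ) (hk : k < 52) : ∀ L : List ℕ, (∀ m ∈ L, m < B52) →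
    (packL L >>> k) &&& onesL L.length = packL (L.map fun v => v / 2 ^ k % 2)
  | [], _ => by simp [packL, onesL]
  | v :: L, h => by
    have ih := shift_land k hk L fun x hx => h x (List.mem_cons_of_mem _ hx)
    have hv : v < B52 := h v List.mem_cons_self
    have hs : v / 2 ^ k % 2 < B52 := lt_of_lt_of_le (Nat.mod_lt _ two_pos) (by norm_num)
    rw [List.map_cons, packL_cons, packL_cons, ← ih, onesL, List.length_cons, List.replicate_succ,
      packL_cons, ← onesL]
    refine Nat.eq_of_testBit_eq fun i => ?_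
    rw [Nat.testBit_and, Nat.testBit_shiftRight, testBit_pack _ _ _ hs, testBit_pack _ _ _ hv,
      testBit_pack _ _ _ (by norm_num)]
    by_cases hi : i < 52
    · simp only [if_pos hi]
      rcases Nat.eq_zero_or_pos i with rfl | hi0
      · simp [hk, Nat.testBit_eq_decide_div_mod_eq]
      · obtain ⟨j, rfl⟩ : ∃ j, i = j + 1 := ⟨i - 1, by omega⟩
        have e : (v / 2 ^ k % 2).testBit (j + 1) = false :=
          Nat.testBit_lt_two_pow (lt_of_lt_of_le (Nat.mod_lt _ two_pos)
            (Nat.le_self_pow (by omega) 2))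
        simp [e, Nat.testBit_succ, Nat.zero_testBit]
    · simp only [if_neg hi]
      rw [Nat.testBit_and, Nat.testBit_shiftRight, if_neg (by omega : ¬ k + i < 52),
        show k + i - 52 = k + (i - 52) by omega]

theorem packL_map_mul (m : ℕ) : ∀ L : List ℕ, packL L * m = packL (L.map (· * m))
  | [] => by simp [packL]
  | v :: L => by rw [List.map_cons, packL_cons, packL_cons, ← packL_map_mul m L]; ring

theorem packL_xor : ∀ A B : List ℕ, A.length = B.length → (∀ a ∈ A, a < B52) → (∀ b ∈ B, b < B52) →
    packL A ^^^ packL B = packL (List.zipWith (· ^^^ ·) A B)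
  | [], [], _, _, _ => by simp [packL]
  | [], _ :: _, h, _, _ => by simp at h
  | _ :: _, [], h, _, _ => by simp at h
  | a :: A, b :: B, h, hA, hB => by
    have ih := packL_xor A B (by simpa using h) (fun x hx => hA x (List.mem_cons_of_mem _ hx))
      (fun x hx => hB x (List.mem_cons_of_mem _ hx))
    have ha : a < B52 := hA a List.mem_cons_self
    have hb : b < B52 := hB b List.mem_cons_self
    have hab : a ^^^ b < B52 := by
      have := Nat.xor_lt_two_pow (n := 52) (x := a) (y := b) (by norm_num; exact ha) (by norm_num; exact hb)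
      norm_num at this; exact this
    rw [List.zipWith_cons_cons, packL_cons, packL_cons, packL_cons, ← ih]
    refine Nat.eq_of_testBit_eq fun i => ?_
    rw [Nat.testBit_xor, testBit_pack _ _ _ ha, testBit_pack _ _ _ hb, testBit_pack _ _ _ hab]
    split <;> simp

theorem appL_cons (m : ℕ) (M : List ℕ) (v acc : ℕ) :
    appL (m :: M) v acc = appL M (v / 2) (acc ^^^ (v % 2 * m)) := by
  rw [appL]
  congr 1
  rcases Nat.mod_two_eq_zero_or_one v with h | h <;> simp [h]

theorem appL_lt : ∀ (M : List ℕ) (v acc : ℕ), (∀ m ∈ M, m < B52) → acc < B52 → appL M v acc < B52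
  | [], _, _, _, h => h
  | m :: M, v, acc, hM, h => by
    rw [appL_cons]
    refine appL_lt M _ _ (fun x hx => hM x (List.mem_cons_of_mem _ hx)) ?_
    have hm : v % 2 * m < 2 ^ 52 := by
      have := hM m List.mem_cons_self
      rcases Nat.mod_two_eq_zero_or_one v with h' | h' <;> rw [h'] <;> omega
    have := Nat.xor_lt_two_pow (n := 52) (x := acc) (by norm_num; exact h) hm
    norm_num at this; exact this

theorem mulGo_spec (V : List ℕ) (hV : ∀ v ∈ V, v < B52) :
    ∀ (M : List ℕ) (k : ℕ) (accs : List ℕ), (∀ m ∈ M, m < B52) → k + M.length ≤ 52 →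
      accs.length = V.length → (∀ a ∈ accs, a < B52) →
      mulGo (onesL V.length) (packL V) M k (packL accs) =
        packL (List.zipWith (fun v a => appL M (v / 2 ^ k) a) V accs)
  | [], k, accs, _, _, hlen, _ => by
    show packL accs = _
    congr 1
    refine List.ext_getElem (by simp [hlen]) fun i h1 h2 => ?_
    simp [appL]
  | m :: M, k, accs, hM, hk, hlen, hacc => by
    have hm : m < B52 := hM m List.mem_cons_self
    simp only [List.length_cons] at hk
    show mulGo (onesL V.length) (packL V) M (k + 1)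
      (packL accs ^^^ (((packL V >>> k) &&& onesL V.length) * m)) = _
    have hb : ∀ x ∈ (V.map fun v => v / 2 ^ k % 2).map (· * m), x < B52 := by
      intro x hx
      simp only [List.mem_map] at hx
      obtain ⟨y, ⟨v, -, rfl⟩, rfl⟩ := hx
      rcases Nat.mod_two_eq_zero_or_one (v / 2 ^ k) with h' | h' <;> rw [h'] <;> omega
    rw [shift_land k (by omega) V hV, packL_map_mul, packL_xor _ _ (by simp [hlen]) hacc hb,
      mulGo_spec V hV M (k + 1) _ (fun x hx => hM x (List.mem_cons_of_mem _ hx)) (by omega)
        (by simp [hlen]) (fun a ha => by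
          obtain ⟨i, hi, rfl⟩ := List.getElem_of_mem ha
          rw [List.getElem_zipWith]
          have h1 := hacc _ (List.getElem_mem (l := accs) (n := i) (by simp at hi; omega))
          have h2 := hb _ (List.getElem_mem (n := i) (by simp at hi ⊢; omega))
          have h3 := Nat.xor_lt_two_pow (n := 52) (by norm_num; exact h1) (by norm_num; exact h2)
          norm_num at h3
          simp only [List.getElem_map] at h3 ⊢
          exact h3)]
    congr 1
    refine List.ext_getElem (by simp [hlen]) fun i h1 h2 => ?_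
    simp only [List.getElem_zipWith, List.getElem_map, appL_cons, Nat.div_div_eq_div_mul, pow_succ]

theorem aw_lt : ∀ (w : List ℕ) (v : ℕ), (∀ k ∈ w, k < 4) → v < B52 → aw w v < B52
  | [], _, _, h => h
  | k :: w, v, hw, _ =>
    appL_lt _ _ _ (fun m hm => mask_lt k (hw k List.mem_cons_self) m hm) (by norm_num)

theorem unit_lt : ∀ v ∈ unitMasks, v < B52 := by decide +kernel

/-- The columns of a word. -/
theorem repr_word {w : List ℕ} (hw : ∀ k ∈ w, k < 4) :
    Repr chevF4 (mat (wordG w)) (unitMasks.map (aw w)) := by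
  refine repr_of_columns chevF4 _ _ (by simp [unitMasks, dim_eq]) fun j => ?_
  have hj : Chev.code chevF4 j < 52 := dim_eq ▸ Chev.code_lt chevF4 j
  rw [← vecOf_two_pow, act_word hw]
  congr 1
  simp [unitMasks, hj]

theorem appL_word {w : List ℕ} (hw : ∀ k ∈ w, k < 4) {c : ℕ} (hc : c < B52) :
    appL (unitMasks.map (aw w)) c 0 = aw w c := by
  refine vecOf_inj_of_lt chevF4 ?_ ?_ ((repr_word hw c).symm.trans (act_word hw c))
  · rw [dim_eq]
    have := appL_lt (unitMasks.map (aw w)) c 0 (fun m hm => by
      obtain ⟨v, hv, rfl⟩ := List.mem_map.1 hm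
      exact aw_lt w v hw (unit_lt v hv)) (by norm_num)
    norm_num; exact this
  · rw [dim_eq]
    have := aw_lt w c hw hc
    norm_num; exact this

theorem packL_zeros : ∀ n, packL (List.replicate n 0) = 0
  | 0 => rfl
  | n + 1 => by rw [List.replicate_succ, packL_cons, packL_zeros n]

theorem cols_bdd {u : List ℕ} (hu : ∀ k ∈ u, k < 4) : ∀ m ∈ unitMasks.map (aw u), m < B52 := by
  intro m hm
  obtain ⟨v, hv, rfl⟩ := List.mem_map.1 hm
  exact aw_lt u v hu (unit_lt v hv)

theorem cols_length (u : List ℕ) : (unitMasks.map (aw u)).length = 52 := by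
  rw [List.length_map, unitMasks, List.length_map, List.length_range]

theorem mulCode_pack (A B : List ℕ) (hA : A.length = 52) (hB : B.length = 52)
    (hA' : ∀ m ∈ A, m < B52) (hB' : ∀ m ∈ B, m < B52) :
    mulCode (packL A) (packL B) = packL (B.map fun v => appL A v 0) := by
  have h1 : unpackL 52 (packL A) = A := by
    have h := unpackL_packL A hA'
    rwa [hA] at h
  have h := mulGo_spec B hB' A 0 (List.replicate B.length 0) hA' (le_of_eq ((Nat.zero_add _).trans hA))
    List.length_replicate (fun a ha => by rw [List.eq_of_mem_replicate ha]; norm_num)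
  rw [packL_zeros, hB] at h
  unfold mulCode ones52
  rw [h1, h]
  refine congrArg packL (List.ext_getElem (by simp [hB]) fun i h2 h3 => ?_)
  simp only [List.getElem_zipWith, List.getElem_replicate, List.getElem_map, pow_zero, Nat.div_one]

theorem mulCode_word {w w' : List ℕ} (hw : ∀ k ∈ w, k < 4) (hw' : ∀ k ∈ w', k < 4) :
    mulCode (wordCode w) (wordCode w') = wordCode (w ++ w') := by
  unfold wordCode
  rw [mulCode_pack _ _ (cols_length w) (cols_length w') (cols_bdd hw) (cols_bdd hw'), List.map_map]
  refine congrArg packL (List.map_congr_left fun v hv => ?_)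
  show appL (unitMasks.map (aw w)) (aw w' v) 0 = aw (w ++ w') v
  rw [appL_word hw (aw_lt w' v hw' (unit_lt v hv))]
  exact (List.foldr_append ..).symm

theorem code_eq {w w' : List ℕ} (hw : ∀ k ∈ w, k < 4) (hw' : ∀ k ∈ w', k < 4)
    (h : wordG w = wordG w') : wordCode w = wordCode w' := by
  refine congrArg packL (List.map_congr_left fun v hv => ?_)
  refine vecOf_inj_of_lt chevF4 ?_ ?_ ((act_word hw v).symm.trans (by rw [h, act_word hw' v]))
  · rw [dim_eq]; have := aw_lt w v hw (unit_lt v hv); norm_num; exact this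
  · rw [dim_eq]; have := aw_lt w' v hw' (unit_lt v hv); norm_num; exact this

theorem exists_word (g : TG) : ∃ w : List ℕ, (∀ k ∈ w, k < 4) ∧ wordG w = g := by
  refine gen_induction (P := fun g => ∃ w : List ℕ, (∀ k ∈ w, k < 4) ∧ wordG w = g)
    ⟨[], by simp, rfl⟩ ?_ ?_ g
  · rintro a b ⟨u, hu, rfl⟩ ⟨v, hv, rfl⟩
    exact ⟨u ++ v, fun k hk => (List.mem_append.1 hk).elim (hu k) (hv k), wordG_append u v⟩
  · exact fun k hk => ⟨[k], by simpa using hk, wordG_singleton k⟩

/-- The code of an element. -/
noncomputable def encG (g : TG) : ℕ := wordCode (exists_word g).choose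

theorem encG_word {w : List ℕ} (hw : ∀ k ∈ w, k < 4) : encG (wordG w) = wordCode w :=
  code_eq (exists_word _).choose_spec.1 hw (exists_word _).choose_spec.2

theorem encG_mul (a b : TG) : encG (a * b) = mulCode (encG a) (encG b) := by
  obtain ⟨u, hu, rfl⟩ := exists_word a
  obtain ⟨v, hv, rfl⟩ := exists_word b
  rw [← wordG_append, encG_word (fun k hk => (List.mem_append.1 hk).elim (hu k) (hv k)),
    encG_word hu, encG_word hv, mulCode_word hu hv]

theorem encG_one : encG 1 = oneCode := encG_word (w := []) (by simp)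

theorem encG_inj : Function.Injective encG := fun a b h => by
  obtain ⟨u, hu, rfl⟩ := exists_word a
  obtain ⟨v, hv, rfl⟩ := exists_word b
  rw [encG_word hu, encG_word hv] at h
  refine eq_of_sameAct hu hv ?_
  have h' : unitMasks.map (aw u) = unitMasks.map (aw v) := by
    have hb : ∀ (w : List ℕ), (∀ k ∈ w, k < 4) → ∀ m ∈ unitMasks.map (aw w), m < B52 := fun w hw m hm => by
      obtain ⟨x, hx, rfl⟩ := List.mem_map.1 hm
      exact aw_lt w x hw (unit_lt x hx)
    have e1 := unpackL_packL _ (hb u hu)
    have e2 := unpackL_packL _ (hb v hv)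
    rw [List.length_map] at e1 e2
    rw [← e1, ← e2]
    exact congrArg (unpackL unitMasks.length) h
  simp only [sameAct, List.all_eq_true, beq_iff_eq]
  exact fun x hx => List.map_inj_left.1 h' x hx

attribute [local irreducible] oneCode wordCode mulCode encG

/-- The Tits group. -/
abbrev TT : Type := ↥(commutator TG)

instance finiteTT : Finite TT := by
  refine Nat.finite_of_card_ne_zero ?_
  rw [card_derived]
  norm_num

/-- Codes of the elements of the Tits group. -/
noncomputable def codeT : Code TT where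
  mul := mulCode
  one := oneCode
  enc g := encG g.1
  enc_one := encG_one
  enc_mul a b := encG_mul a.1 b.1
  enc_inj a b h := Subtype.ext (encG_inj h)

theorem codeT_enc (g : TT) : codeT.enc g = encG g.1 := rfl

theorem codeT_one : codeT.one = oneCode := rfl

theorem mem_derived {w : List ℕ} (hw : ∀ k ∈ w, k < 4) (h : oddW w = false) :
    wordG w ∈ commutator TG := by
  let π : TG →* Abelianization TG := Abelianization.of
  obtain ⟨h0, h1, h3, h22⟩ : π (genG 0) = 1 ∧ π (genG 1) = 1 ∧ π (genG 3) = π (genG 2) ∧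
      π (genG 2) * π (genG 2) = 1 := abel_gens
  have key : ∀ u : List ℕ, (∀ k ∈ u, k < 4) → π (wordG u) = bif oddW u then π (genG 2) else 1 := by
    intro u
    induction u with
    | nil => intro _; simp [wordG, oddW]
    | cons k u ih =>
      intro hu
      rw [show wordG (k :: u) = genG k * wordG u by simp [wordG], map_mul,
        ih fun x hx => hu x (List.mem_cons_of_mem _ hx), oddW]
      have hk := hu k List.mem_cons_self
      interval_cases k <;> cases oddW u <;> simp [Nat.ble, h0, h1, h3, h22]
  have he := key w hw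
  rw [h] at he
  exact (QuotientGroup.eq_one_iff (N := commutator TG) (wordG w)).1 he

theorem exists_elems {W : List (List ℕ)} {cs : List ℕ} (h : wordsOK W cs = true) :
    ∃ f : ℕ → TT, ∀ i, codeT.enc (f i) = cs.getD i codeT.one := by
  simp only [wordsOK, Bool.and_eq_true, decide_eq_true_eq, List.all_eq_true, Nat.blt_eq,
    Bool.not_eq_true'] at h
  obtain ⟨hmap, hlt⟩ := h
  have key : ∀ i, ∃ g : TT, codeT.enc g = cs.getD i oneCode := by
    intro i
    by_cases hi : i < W.length
    · obtain ⟨h4, hodd⟩ := hlt _ (List.getElem_mem hi)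
      refine ⟨⟨wordG W[i], mem_derived h4 hodd⟩, ?_⟩
      rw [codeT_enc, encG_word h4, ← hmap, List.getD_eq_getElem _ _ (by simpa using hi), List.getElem_map]
    · refine ⟨1, ?_⟩
      rw [codeT.enc_one, codeT_one, List.getD_eq_default _ _ (by
        rw [← hmap, List.length_map]; exact Nat.le_of_not_lt hi)]
  choose f hf using key
  exact ⟨f, fun i => by rw [codeT_one]; exact hf i⟩

theorem exists_applies (B : BCert) (p N m : ℕ) {W₁ W₂ : List (List ℕ)}
    (h₁ : wordsOK W₁ B.D.gens = true) (h₂ : wordsOK W₂ B.D.gs = true) (hp : p.Prime)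
    (hP : B.D.P.p = p) (hn : B.D.P.p ^ B.D.P.n = N) (hm : 17971200 = N * m) (hpm : ¬ p ∣ m)
    (hchk : B.check mulCode oneCode = true) :
    ∃ gen gsE : ℕ → TT, Applies codeT B p gen gsE := by
  obtain ⟨gen, hgen⟩ := exists_elems h₁
  obtain ⟨gsE, hgs⟩ := exists_elems h₂
  refine ⟨gen, gsE, hp, hP, fun i _ => hgen i, hgs, ?_, hchk⟩
  have hc := hchk
  simp only [BCert.check, Bool.and_eq_true] at hc
  obtain ⟨-, hcard⟩ := card_initGroup_of_groupOK codeT B.D (hP.symm ▸ hp) _
    (fun i _ => hgen i) hc.1.1.1 hc.1.1.2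
  have h := (initGroup gen B.D.P.n).card_mul_index
  rw [hcard.trans hn, show Nat.card TT = 17971200 from card_derived, hm] at h
  have hN : 0 < N := by rcases Nat.eq_zero_or_pos N with rfl | h0 <;> omega
  rwa [Nat.eq_of_mul_eq_mul_left hN h]

theorem card_schurMult_le : Nat.card (CentralExt.schurMult TT) ≤ 1 := by
  have hpos : Nat.card (CentralExt.schurMult TT) ≠ 0 := Nat.card_pos.ne'
  refine Nat.le_of_dvd one_pos ?_
  rw [← Nat.factorization_le_iff_dvd hpos one_ne_zero]
  intro p
  by_cases hp : p.Prime
  swap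
  · simp [Nat.factorization_eq_zero_of_not_prime _ hp]
  rcases eq_or_ne p 2 with rfl | h2
  · obtain ⟨g₁, e₁, a₁⟩ := exists_applies titsTwoCert 2 2048 8775 titsTwo_gens titsTwo_gs
      Nat.prime_two rfl (by norm_num [titsTwoCert]) (by norm_num) (by norm_num) titsTwo_check
    refine (SchurSmall.factorization_schurMult_le codeT (k := 0) (r := 0) a₁ a₁
      rfl rfl le_rfl rfl rfl rfl).trans ?_
    exact Nat.zero_le _
  rcases eq_or_ne p 3 with rfl | h3
  · obtain ⟨g₁, e₁, a₁⟩ := exists_applies titsThreeCert 3 27 665600 titsThree_gens titsThree_gs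
      Nat.prime_three rfl (by norm_num [titsThreeCert]) (by norm_num) (by norm_num) titsThree_check
    refine (SchurSmall.factorization_schurMult_le codeT (k := 0) (r := 0) a₁ a₁
      rfl rfl le_rfl rfl rfl rfl).trans ?_
    exact Nat.zero_le _
  rcases eq_or_ne p 5 with rfl | h5
  · obtain ⟨g₁, e₁, a₁⟩ := exists_applies titsFiveCert 5 25 718848 titsFive_gens titsFive_gs
      (by norm_num) rfl (by norm_num [titsFiveCert]) (by norm_num) (by norm_num) titsFive_check
    refine (SchurSmall.factorization_schurMult_le codeT (k := 0) (r := 0) a₁ a₁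
      rfl rfl le_rfl rfl rfl rfl).trans ?_
    exact Nat.zero_le _
  haveI : Fact p.Prime := ⟨hp⟩
  rw [Nat.factorization_eq_zero_of_not_dvd (not_dvd_schurMult_of_sq_not_dvd p fun hsq => ?_)]
  · exact Nat.zero_le _
  rw [show Nat.card TT = 2 ^ 11 * 3 ^ 3 * 5 ^ 2 * 13 from card_derived.trans (by norm_num)] at hsq
  have hdvd : p ∣ 2 ^ 11 * 3 ^ 3 * 5 ^ 2 * 13 := (dvd_pow_self p two_ne_zero).trans hsq
  rcases hp.dvd_mul.1 hdvd with h | h
  · rcases hp.dvd_mul.1 h with h' | h'
    · rcases hp.dvd_mul.1 h' with h'' | h''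
      · exact h2 ((Nat.prime_dvd_prime_iff_eq hp Nat.prime_two).1 (hp.dvd_of_dvd_pow h''))
      · exact h3 ((Nat.prime_dvd_prime_iff_eq hp Nat.prime_three).1 (hp.dvd_of_dvd_pow h''))
    · exact h5 ((Nat.prime_dvd_prime_iff_eq hp (by norm_num)).1 (hp.dvd_of_dvd_pow h'))
  · rw [(Nat.prime_dvd_prime_iff_eq hp (by norm_num)).1 h] at hsq
    norm_num at hsq

theorem hasCyclicSchurMultiplier_Tits : Cfsg.HasCyclicSchurMultiplier Cfsg.Lie.TitsGroup 1 := by
  haveI : IsSimpleGroup TT := simple_derived.1
  have hperf : commutator TT = ⊤ := by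
    refine (IsSimpleGroup.eq_bot_or_eq_top_of_normal _ inferInstance).resolve_left fun h => ?_
    exact simple_derived.2 ⟨⟨fun a b => by
      have hab : ⁅a, b⁆ ∈ commutator TT :=
        Subgroup.commutator_mem_commutator (Subgroup.mem_top a) (Subgroup.mem_top b)
      rw [h, Subgroup.mem_bot, commutatorElement_eq_one_iff_mul_comm] at hab
      exact hab⟩⟩
  have hid : Cfsg.IsStemExtension (MonoidHom.id TT) := by
    refine ⟨fun g => ⟨g, rfl⟩, ?_, ?_⟩ <;> intro g hg <;> rw [show g = 1 from MonoidHom.mem_ker.1 hg] <;> exact one_mem _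
  have hk : Nat.card (MonoidHom.id TT).ker = 1 := by
    rw [(MonoidHom.ker_eq_bot_iff (MonoidHom.id TT)).2 fun a b h => h, Subgroup.card_bot]
  haveI : Subsingleton (MonoidHom.id TT).ker := (Nat.card_eq_one_iff_unique.1 hk).1
  exact CentralExt.hasSchurMultiplier_of_stem hid (card_schurMult_le.trans hk.ge)
    { toFun := fun _ => 1, invFun := fun _ => 1, left_inv := fun _ => Subsingleton.elim _ _
      right_inv := fun _ => Subsingleton.elim _ _, map_mul' := fun _ _ => (one_mul 1).symm }

end Cfsg.Agent.SchurSmall.Tits
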